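import Mathlib
import Cfsg.Agent.Lib.PGroup.Extraspecial

/-!
An extraspecial `p`-group has order `p ^ (2 * n + 1)`.
-/

set_option autoImplicit false

namespace Cfsg.Agent.Lib.ExtraspecialOrder

open Subgroup
open scoped commutatorElement
open Cfsg.Agent.Lib

variable {E : Type*} [Group E] [Finite E] {p : ℕ} [Fact p.Prime]

theorem card_of_center_inf (h : IsExtraspecial p E) :
    ∀ D : Subgroup E, center E ≤ D → (∀ d ∈ D, (∀ e ∈ D, d * e = e * d) → d ∈ center E) →
      ∃ k : ℕ, Nat.card D = p ^ (2 * k + 1) := by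
  intro D
  induction hn : Nat.card D using Nat.strong_induction_on generalizing D with
  | _ m ih =>
  intro hZD hD
  subst hn
  by_cases hle : D ≤ center E
  · exact ⟨0, by rw [le_antisymm hle hZD, Extraspecial.card_center h]; simp⟩
  obtain ⟨x, hxD, hxZ⟩ := SetLike.not_le_iff_exists.mp hle
  obtain ⟨y, hyD, hxy⟩ : ∃ y ∈ D, x * y ≠ y * x := by
    by_contra hc; push Not at hc; exact hxZ (hD x hxD hc)
  let f : D →* center E × center E :=
    { toFun := fun d => (⟨⁅(d : E), x⁆, Extraspecial.commutator_mem_center h _ _⟩,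
        ⟨⁅(d : E), y⁆, Extraspecial.commutator_mem_center h _ _⟩)
      map_one' := by ext <;> simp [commutatorElement_one_left]
      map_mul' := fun a b => by
        ext <;> simp [Extraspecial.commutator_mul_left (Extraspecial.commutator_mem_center h _ _)] }
  have hc : ⁅x, y⁆ ≠ 1 := fun e => hxy (commutatorElement_eq_one_iff_mul_comm.mp e)
  have hzc : ∀ z ∈ center E, ∃ i : ℤ, ⁅x, y⁆ ^ i = z := by
    intro z hz
    rw [← Extraspecial.zpowers_eq_center h (Extraspecial.commutator_mem_center h x y) hc] at hz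
    exact mem_zpowers_iff.mp hz
  have hsurj : Function.Surjective f := by
    rintro ⟨a, b⟩
    obtain ⟨i, hi⟩ := hzc a a.2
    obtain ⟨j, hj⟩ := hzc b b.2
    refine ⟨⟨y, hyD⟩ ^ (-i) * ⟨x, hxD⟩ ^ j, ?_⟩
    rw [map_mul, map_zpow, map_zpow]
    have e : ⁅y, x⁆ = (⁅x, y⁆)⁻¹ := (commutatorElement_inv x y).symm
    apply Prod.ext <;> apply Subtype.ext
    · simp only [f, MonoidHom.coe_mk, OneHom.coe_mk, Prod.fst_mul, Prod.pow_fst,
        coe_mul, coe_zpow, e, commutatorElement_self, one_zpow, mul_one]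
      rw [inv_zpow', neg_neg, hi]
    · simp only [f, MonoidHom.coe_mk, OneHom.coe_mk, Prod.snd_mul, Prod.pow_snd,
        coe_mul, coe_zpow, commutatorElement_self, one_zpow, one_mul]
      exact hj
  set D' : Subgroup E := f.ker.map D.subtype with hD'
  have hmem : ∀ d, d ∈ D' ↔ d ∈ D ∧ d * x = x * d ∧ d * y = y * d := by
    intro d
    constructor
    · rintro ⟨d, hd, rfl⟩
      have hd' := MonoidHom.mem_ker.mp hd
      exact ⟨d.2, commutatorElement_eq_one_iff_mul_comm.mp (congrArg (fun z => (z.1 : E)) hd'),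
        commutatorElement_eq_one_iff_mul_comm.mp (congrArg (fun z => (z.2 : E)) hd')⟩
    · rintro ⟨hd, h1, h2⟩
      refine ⟨⟨d, hd⟩, MonoidHom.mem_ker.mpr ?_, rfl⟩
      apply Prod.ext <;> apply Subtype.ext
      · exact commutatorElement_eq_one_iff_mul_comm.mpr h1
      · exact commutatorElement_eq_one_iff_mul_comm.mpr h2
  have hcard : Nat.card D = Nat.card D' * p ^ 2 := by
    rw [hD', card_map_of_injective D.subtype_injective, f.ker.card_eq_card_quotient_mul_card_subgroup,
      Nat.card_congr (QuotientGroup.quotientKerEquivOfSurjective f hsurj).toEquiv, Nat.card_prod,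
      Extraspecial.card_center h]
    ring
  have hlt : Nat.card D' < Nat.card D := by
    rw [hcard]
    exact lt_mul_of_one_lt_right Nat.card_pos (Nat.one_lt_pow two_ne_zero (Fact.out : p.Prime).one_lt)
  obtain ⟨k, hk⟩ := ih _ hlt D' rfl
    (fun z hz => (hmem z).mpr ⟨hZD hz, (mem_center_iff.mp hz x).symm, (mem_center_iff.mp hz y).symm⟩)
    (by
      intro d hd hcomm
      obtain ⟨hdD, hdx, hdy⟩ := (hmem d).mp hd
      refine hD d hdD fun e he => ?_
      obtain ⟨a, b, hab⟩ : ∃ i j : ℤ, f ⟨e, he⟩ = f (⟨y, hyD⟩ ^ i * ⟨x, hxD⟩ ^ j) := by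
        obtain ⟨i, hi⟩ := hzc _ (f ⟨e, he⟩).1.2
        obtain ⟨j, hj⟩ := hzc _ (f ⟨e, he⟩).2.2
        refine ⟨-i, j, ?_⟩
        rw [map_mul, map_zpow, map_zpow]
        have e' : ⁅y, x⁆ = (⁅x, y⁆)⁻¹ := (commutatorElement_inv x y).symm
        apply Prod.ext <;> apply Subtype.ext
        · simp only [f, MonoidHom.coe_mk, OneHom.coe_mk, Prod.fst_mul, Prod.pow_fst,
            coe_mul, coe_zpow, e', commutatorElement_self, one_zpow, mul_one] at hi ⊢
          rw [inv_zpow', neg_neg, hi]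
        · simp only [f, MonoidHom.coe_mk, OneHom.coe_mk, Prod.snd_mul, Prod.pow_snd,
            coe_mul, coe_zpow, commutatorElement_self, one_zpow, one_mul] at hj ⊢
          exact hj.symm
      have h1 : (⟨e, he⟩ : D) * (⟨y, hyD⟩ ^ a * ⟨x, hxD⟩ ^ b)⁻¹ ∈ f.ker := by
        rw [MonoidHom.mem_ker, map_mul, map_inv, hab, mul_inv_cancel]
      have h2 : Commute d (e * (y ^ a * x ^ b)⁻¹) := hcomm _ ⟨_, h1, by simp⟩
      have h3 : Commute d (y ^ a * x ^ b) :=
        ((show Commute d y from hdy).zpow_right a).mul_right ((show Commute d x from hdx).zpow_right b)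
      have h4 := h2.mul_right h3
      rwa [inv_mul_cancel_right] at h4)
  refine ⟨k + 1, ?_⟩
  rw [hcard, hk, ← pow_add, show 2 * k + 1 + 2 = 2 * (k + 1) + 1 by ring]

/-- An extraspecial `p`-group has order `p ^ (2 * n + 1)`, `n ≥ 1`. -/
theorem exists_card_eq (h : IsExtraspecial p E) :
    ∃ n : ℕ, 1 ≤ n ∧ Nat.card E = p ^ (2 * n + 1) := by
  obtain ⟨k, hk⟩ := card_of_center_inf h ⊤ le_top
    (fun d _ hd => mem_center_iff.mpr fun e => (hd e (mem_top e)).symm)
  rw [card_top] at hk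
  refine ⟨k, ?_, hk⟩
  have h3 := Extraspecial.card_gt_sq h
  rw [hk] at h3
  have := (Nat.pow_le_pow_iff_right (Fact.out : p.Prime).one_lt).mp h3
  omega

end Cfsg.Agent.Lib.ExtraspecialOrder
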